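import Mathlib
import Cfsg.Agent.Lib.Helper50.CAI.Defs

/-!
# CAI (S2202): common lemmas for the packages [SEMI], [INV], [FIX2]
-/

set_option autoImplicit false

namespace Cfsg.Agent.Lib.Helper15.CAI

open Cfsg.Agent.Lib.Helper50.CAI

universe u

variable {G : Type u} [Group G]

theorem mem_Dz {P Q : Sylow 2 G} {x : G} : x ∈ Dz P Q ↔ x • P = P ∧ x • Q = Q := by
  unfold Dz
  rw [Subgroup.mem_inf, MulAction.mem_stabilizer_iff, MulAction.mem_stabilizer_iff]

theorem conj_mem_of_smul_eq {P : Sylow 2 G} {x : G} (hx : x • P = P) {y : G}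
    (hy : y ∈ (P : Subgroup G)) : x * y * x⁻¹ ∈ (P : Subgroup G) := by
  have h := Sylow.smul_eq_iff_mem_normalizer.mp hx
  exact (Subgroup.mem_normalizer_iff.mp h y).mp hy

theorem smul_eq_of_mem {P : Sylow 2 G} {x : G} (hx : x ∈ (P : Subgroup G)) : x • P = P :=
  Sylow.smul_eq_iff_mem_normalizer.mpr (Subgroup.le_normalizer hx)

theorem smul_eq_of_mem_Cz {P : Sylow 2 G} {x : G} (hx : x ∈ Cz P) : x • P = P :=
  Sylow.smul_eq_iff_mem_normalizer.mpr
    (Subgroup.centralizer_le_normalizer ((P : Subgroup G) : Set G) hx)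

theorem mul_self_of_orderOf_two {t : G} (ht : orderOf t = 2) : t * t = 1 := by
  have h := pow_orderOf_eq_one t
  rw [ht, pow_two] at h
  exact h

theorem swap_symm {P Q : Sylow 2 G} {t : G} (ht : orderOf t = 2) (h : t • P = Q) :
    t • Q = P := by
  rw [← h, smul_smul, mul_self_of_orderOf_two ht, one_smul]

theorem orderOf_conj' (g x : G) : orderOf (g * x * g⁻¹) = orderOf x := by
  have h := orderOf_injective (MulAut.conj g).toMonoidHom (MulAut.conj g).injective x
  simpa using h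

theorem exists_sylow_of_involution {t : G} (ht : orderOf t = 2) :
    ∃ R : Sylow 2 G, t ∈ (R : Subgroup G) := by
  have hp : IsPGroup 2 (Subgroup.zpowers t) := by
    apply IsPGroup.of_card (n := 1)
    rw [Nat.card_zpowers, ht, pow_one]
  obtain ⟨R, hR⟩ := hp.exists_le_sylow
  exact ⟨R, hR (Subgroup.mem_zpowers t)⟩

theorem mem_centralizer_singleton {t c : G} (h : t * c = c * t) :
    c ∈ Subgroup.centralizer ({t} : Set G) := by
  rw [Subgroup.mem_centralizer_iff]
  intro x hx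
  rw [Set.mem_singleton_iff] at hx
  rw [hx]
  exact h

theorem conj_eq_conj_comm {a b s : G} (h : a * s * a⁻¹ = b * s * b⁻¹) :
    s * (a⁻¹ * b) = (a⁻¹ * b) * s := by
  have h' : s = a⁻¹ * (b * s * b⁻¹) * a := by rw [← h]; group
  calc s * (a⁻¹ * b) = a⁻¹ * (b * s * b⁻¹) * a * (a⁻¹ * b) := by rw [← h']
    _ = (a⁻¹ * b) * s := by group

theorem eq_one_of_sq_of_odd {d : G} (hdd : d * d = 1) (hodd : Odd (orderOf d)) : d = 1 := by
  have h1 : orderOf d ∣ 2 := orderOf_dvd_of_pow_eq_one (by rw [pow_two]; exact hdd)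
  have h2 := (Nat.dvd_prime Nat.prime_two).1 h1
  rcases h2 with h | h
  · exact orderOf_eq_one_iff.mp h
  · rw [h] at hodd
    exact absurd hodd (by decide)

theorem mem_of_sq_mem_of_odd {H : Subgroup G} {b : G} (hodd : Odd (orderOf b))
    (h : b * b ∈ H) : b ∈ H := by
  obtain ⟨j, hj⟩ := hodd
  have h1 : (b * b) ^ (j + 1) = b := by
    rw [← pow_two, ← pow_mul]
    have h2 : 2 * (j + 1) = orderOf b + 1 := by omega
    rw [h2, pow_succ, pow_orderOf_eq_one, one_mul]
  rw [← h1]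
  exact Subgroup.pow_mem H h _

/-- The two-point stabilizer has no involution, hence consists of elements of odd order. -/
theorem Dz_odd [Finite G] {P Q : Sylow 2 G} (hBP : BasicFacts P) (hBQ : BasicFacts Q)
    (hPQ : P ≠ Q) {x : G} (hx : x ∈ Dz P Q) : Odd (orderOf x) := by
  by_contra hodd
  rw [Nat.not_odd_iff_even] at hodd
  obtain ⟨k, hk⟩ := hodd
  have hpos : 0 < orderOf x := orderOf_pos x
  have hk0 : k ≠ 0 := by omega
  have hz : orderOf (x ^ k) = 2 := by
    rw [orderOf_pow' x hk0, hk]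
    have h1 : Nat.gcd (k + k) k = k := by
      rw [Nat.gcd_comm]
      exact Nat.gcd_eq_left ⟨2, by ring⟩
    rw [h1]
    have h2 : k + k = 2 * k := by ring
    rw [h2]
    exact Nat.mul_div_cancel 2 (by omega)
  have hzD : x ^ k ∈ Dz P Q := Subgroup.pow_mem _ hx k
  obtain ⟨hzP, hzQ⟩ := mem_Dz.mp hzD
  have h2k : ∃ j : ℕ, (x ^ k) ^ (2 ^ j) = 1 := ⟨1, by rw [pow_one, ← hz]; exact pow_orderOf_eq_one _⟩
  have h1 : x ^ k ∈ (P : Subgroup G) := hBP.fix2 _ hzP h2k
  have h2 : x ^ k ∈ (Q : Subgroup G) := hBQ.fix2 _ hzQ h2k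
  have h3 : x ^ k = 1 := hBP.ti Q (Ne.symm hPQ) _ h1 h2
  rw [h3, orderOf_one] at hz
  omega

end Cfsg.Agent.Lib.Helper15.CAI
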