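import Mathlib
import Cfsg.Agent.Lib.Helper50.CAI.Defs
import Cfsg.Agent.Lib.Helper15.CAI.Common

/-!
# CAI (S2202) package [FIX2]

A non-identity element of a two-point stabilizer `Dz P Q` fixes exactly two Sylow 2-subgroups.
-/

set_option autoImplicit false

namespace Cfsg.Agent.Lib.Helper15.CAI

open Cfsg.Agent.Lib.Helper50.CAI

universe u

/-- `u d u = d⁻¹` for an involution `u` means that `u` semiconjugates `d` to `d⁻¹`. -/
theorem semiconj_of_inv {G : Type u} [Group G] {v d : G} (hv : orderOf v = 2)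
    (h : v * d * v = d⁻¹) : SemiconjBy v d d⁻¹ := by
  have hvv := mul_self_of_orderOf_two hv
  show v * d = d⁻¹ * v
  calc v * d = v * d * (v * v) := by rw [hvv, mul_one]
    _ = (v * d * v) * v := by group
    _ = d⁻¹ * v := by rw [h]

theorem false_of_sq {G : Type u} [Group G] {P Q : Sylow 2 G} (hI : InvFacts P Q) {d : G}
    (hd : d ∈ Dz P Q) (hd1 : d ≠ 1) (hdd : d * d = 1) : False := by
  have ho : orderOf d = 2 := orderOf_eq_prime (by rw [pow_two]; exact hdd) hd1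
  exact hI.odd d hd hd1 d ho rfl

theorem pkgFix2 (hB : PkgBasic.{u}) : PkgFix2.{u} := by
  intro G _ _ hyp hbti hS hI P Q hPQ d hd hd1 R hdR
  by_contra hcon
  push Not at hcon
  obtain ⟨hRP, hRQ⟩ := hcon
  have BP := hB hyp P
  obtain ⟨hdP, hdQ⟩ := mem_Dz.mp hd
  obtain ⟨u1, hu1, hu1P⟩ := (hS P R (Ne.symm hRP)).1
  obtain ⟨u2, hu2, hu2R⟩ := (hS R Q hRQ).1
  obtain ⟨t, ht, htQ⟩ := (hS Q P (Ne.symm hPQ)).1
  have i1 : SemiconjBy u1 d d⁻¹ := semiconj_of_inv hu1
    ((hI P R (Ne.symm hRP)).inv u1 hu1 hu1P d (mem_Dz.mpr ⟨hdP, hdR⟩))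
  have i2 : SemiconjBy u2 d d⁻¹ := semiconj_of_inv hu2
    ((hI R Q hRQ).inv u2 hu2 hu2R d (mem_Dz.mpr ⟨hdR, hdQ⟩))
  have i3 : SemiconjBy t d d⁻¹ := semiconj_of_inv ht
    ((hI Q P (Ne.symm hPQ)).inv t ht htQ d (mem_Dz.mpr ⟨hdQ, hdP⟩))
  have i2' : SemiconjBy u2 d⁻¹ d := by
    have h := i2.inv_right
    rwa [inv_inv] at h
  obtain ⟨w, hwdef⟩ : ∃ w : G, w = t * u2 * u1 := ⟨_, rfl⟩
  have hwP : w • P = P := by rw [hwdef, mul_smul, mul_smul, hu1P, hu2R, htQ]
  have hw : SemiconjBy w d d⁻¹ := by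
    rw [hwdef]
    exact (i3.mul_left i2').mul_left i1
  have hw' : SemiconjBy w d⁻¹ d := by
    have h := hw.inv_right
    rwa [inv_inv] at h
  have hsq : Commute (w * w) d := hw'.mul_left hw
  have hsqi : ∀ i : ℕ, Commute ((w * w) ^ i) d := fun i => hsq.pow_left i
  have hoddpow : ∀ i : ℕ, SemiconjBy ((w * w) ^ i * w) d d⁻¹ := by
    intro i
    have h1 : SemiconjBy ((w * w) ^ i) d⁻¹ d⁻¹ := (hsqi i).inv_right
    exact h1.mul_left hw
  have hwpow : ∀ j : ℕ, w ^ j • P = P := by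
    intro j
    have h1 : w ∈ MulAction.stabilizer G P := MulAction.mem_stabilizer_iff.mpr hwP
    exact MulAction.mem_stabilizer_iff.mp (Subgroup.pow_mem _ h1 j)
  have hpos : 0 < orderOf w := orderOf_pos w
  rcases Nat.even_or_odd (orderOf w) with hev | hodd
  · obtain ⟨k, hk⟩ := hev
    have hk0 : k ≠ 0 := by omega
    have hz : orderOf (w ^ k) = 2 := by
      rw [orderOf_pow' w hk0, hk]
      have h1 : Nat.gcd (k + k) k = k := by
        rw [Nat.gcd_comm]
        exact Nat.gcd_eq_left ⟨2, by ring⟩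
      rw [h1]
      have h2 : k + k = 2 * k := by ring
      rw [h2]
      exact Nat.mul_div_cancel 2 (by omega)
    have hzP : w ^ k ∈ (P : Subgroup G) :=
      BP.fix2 _ (hwpow k) ⟨1, by rw [pow_one, ← hz]; exact pow_orderOf_eq_one _⟩
    rcases Nat.even_or_odd k with hkev | hkodd
    · obtain ⟨i, hi⟩ := hkev
      have h1 : w ^ k = (w * w) ^ i := by
        rw [hi, ← two_mul, pow_mul, pow_two]
      have h2 : Commute (w ^ k) d := by rw [h1]; exact hsqi i
      exact (hI P Q hPQ).odd d hd hd1 (w ^ k) hz h2.eq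
    · obtain ⟨i, hi⟩ := hkodd
      have h1 : w ^ k = (w * w) ^ i * w := by
        rw [hi, pow_succ, pow_mul, pow_two]
      have h2 : SemiconjBy (w ^ k) d d⁻¹ := by rw [h1]; exact hoddpow i
      have hzz : w ^ k * w ^ k = 1 := mul_self_of_orderOf_two hz
      have h3 : w ^ k * (d * w ^ k * d⁻¹) ∈ (P : Subgroup G) :=
        mul_mem hzP (conj_mem_of_smul_eq hdP hzP)
      have h4 : w ^ k * (d * w ^ k * d⁻¹) = d⁻¹ * d⁻¹ := by
        have h5 : w ^ k * d = d⁻¹ * w ^ k := h2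
        calc w ^ k * (d * w ^ k * d⁻¹) = (w ^ k * d) * w ^ k * d⁻¹ := by group
          _ = d⁻¹ * (w ^ k * w ^ k) * d⁻¹ := by rw [h5]; group
          _ = d⁻¹ * d⁻¹ := by rw [hzz, mul_one]
      rw [h4] at h3
      have h6 : d⁻¹ * d⁻¹ = 1 :=
        (hI P Q hPQ).triv _ (mul_mem (inv_mem hd) (inv_mem hd)) (BP.le h3)
      have h7 : d * d = 1 := by
        have h8 : (d * d)⁻¹ = 1 := by rw [mul_inv_rev]; exact h6
        exact inv_eq_one.mp h8
      exact false_of_sq (hI P Q hPQ) hd hd1 h7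
  · obtain ⟨i, hi⟩ := hodd
    have h1 : w ^ orderOf w = (w * w) ^ i * w := by
      rw [hi, pow_succ, pow_mul, pow_two]
    have h2 : SemiconjBy (1 : G) d d⁻¹ := by
      have h3 := hoddpow i
      rw [← h1, pow_orderOf_eq_one] at h3
      exact h3
    have h4 : d = d⁻¹ := by
      have h5 : (1 : G) * d = d⁻¹ * 1 := h2
      rwa [one_mul, mul_one] at h5
    have h7 : d * d = 1 := by
      nth_rewrite 2 [h4]
      exact mul_inv_cancel d
    exact false_of_sq (hI P Q hPQ) hd hd1 h7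

end Cfsg.Agent.Lib.Helper15.CAI
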