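import Mathlib
import Cfsg.Agent.Lib.Helper50.CAI.Defs
import Cfsg.Agent.Lib.Helper15.CAI.Common

/-!
# CAI (S2202) package [INV]

Facts about the two-point stabilizer `Dz P Q`.
-/

set_option autoImplicit false

namespace Cfsg.Agent.Lib.Helper15.CAI

open Cfsg.Agent.Lib.Helper50.CAI

universe u

theorem pkgInv (hB : PkgBasic.{u}) : PkgInv.{u} := by
  intro G _ _ hyp hbti hS hsemi P Q hPQ
  classical
  have BP := hB hyp P
  have BQ := hB hyp Q
  have htriv : ∀ x ∈ Dz P Q, x ∈ Cz P → x = 1 := by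
    intro x hxD hxC
    have hodd := Dz_odd BP BQ hPQ hxD
    exact hsemi P Q hPQ x ((BP.memB x).mpr ⟨hxC, hodd⟩) (mem_Dz.mp hxD).2
  have hne : Nonempty {t : G // t ∈ (P : Subgroup G) ∧ orderOf t = 2} := by
    have h3 := BP.three
    unfold mInv at h3
    by_contra hcon
    rw [not_nonempty_iff] at hcon
    rw [Nat.card_of_isEmpty] at h3
    omega
  obtain ⟨⟨s0, hs0P, hs0⟩⟩ := hne
  obtain ⟨φ, hφ⟩ : ∃ φ : ↥(Dz P Q) → {t : G // t ∈ (P : Subgroup G) ∧ orderOf t = 2},
      ∀ d, (φ d : G) = (d : G) * s0 * (d : G)⁻¹ :=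
    ⟨fun d => ⟨(d : G) * s0 * (d : G)⁻¹, conj_mem_of_smul_eq (mem_Dz.mp d.2).1 hs0P,
      by rw [orderOf_conj']; exact hs0⟩, fun d => rfl⟩
  have hφinj : Function.Injective φ := by
    intro d d' h
    have h1 : (d : G) * s0 * (d : G)⁻¹ = (d' : G) * s0 * (d' : G)⁻¹ := by
      rw [← hφ, ← hφ, h]
    have h2 := conj_eq_conj_comm h1
    have h3 : (d : G)⁻¹ * (d' : G) ∈ Cz P := by
      rw [← BP.cent s0 hs0P hs0]
      exact mem_centralizer_singleton h2
    have h4 : (d : G)⁻¹ * (d' : G) = 1 :=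
      htriv _ (mul_mem (inv_mem d.2) d'.2) h3
    apply Subtype.ext
    exact inv_mul_eq_one.mp h4
  have hle : Nat.card ↥(Dz P Q) ≤ mInv P := Nat.card_le_card_of_injective φ hφinj
  obtain ⟨t, ht, htP⟩ := (hS P Q hPQ).1
  have hincl : ∀ t' : G, Function.Injective
      (fun x : {x : G // x ∈ Dz P Q ∧ t' * x * t' = x⁻¹} => (⟨x.1, x.2.1⟩ : ↥(Dz P Q))) := by
    intro t' x y h
    apply Subtype.ext
    have h' := congrArg (fun z : ↥(Dz P Q) => (z : G)) h
    exact h'
  have hge : mInv P ≤ Nat.card ↥(Dz P Q) := by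
    rw [← (hS P Q hPQ).2 t ht htP]
    exact Nat.card_le_card_of_injective _ (hincl t)
  have hcard : Nat.card ↥(Dz P Q) = mInv P := le_antisymm hle hge
  have hinv : ∀ t' : G, orderOf t' = 2 → t' • P = Q → ∀ d ∈ Dz P Q, t' * d * t' = d⁻¹ := by
    intro t' ht' ht'P d hd
    have hbij := Function.Injective.bijective_of_nat_card_le (hincl t') (by
      rw [(hS P Q hPQ).2 t' ht' ht'P, hcard])
    obtain ⟨x, hx⟩ := hbij.2 ⟨d, hd⟩
    have hxd : x.1 = d := congrArg Subtype.val hx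
    rw [← hxd]
    exact x.2.2
  have hφsurj : Function.Surjective φ :=
    (Function.Injective.bijective_of_nat_card_le hφinj (by
      show Nat.card {t : G // t ∈ (P : Subgroup G) ∧ orderOf t = 2} ≤ Nat.card ↥(Dz P Q)
      exact hge)).2
  refine ⟨hcard, hinv, htriv, ?_, ?_⟩
  · intro g hg
    obtain ⟨d, hd⟩ := hφsurj ⟨g * s0 * g⁻¹, conj_mem_of_smul_eq hg hs0P,
      by rw [orderOf_conj']; exact hs0⟩
    have h1 : (d : G) * s0 * (d : G)⁻¹ = g * s0 * g⁻¹ := by
      rw [← hφ, hd]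
    have h2 := conj_eq_conj_comm h1
    refine ⟨d, d.2, (d : G)⁻¹ * g, ?_, by group⟩
    rw [← BP.cent s0 hs0P hs0]
    exact mem_centralizer_singleton h2
  · intro d hd hd1 z hz hzd
    obtain ⟨R, hzR⟩ := exists_sylow_of_involution hz
    have BR := hB hyp R
    have hdR : d ∈ Cz R := by
      rw [← BR.cent z hzR hz]
      exact mem_centralizer_singleton hzd
    have hdodd := Dz_odd BP BQ hPQ hd
    have hdBR : d ∈ Bz R := (BR.memB d).mpr ⟨hdR, hdodd⟩
    have htt : t * t = 1 := mul_self_of_orderOf_two ht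
    have htinv : t⁻¹ = t := inv_eq_of_mul_eq_one_right htt
    have htd : t * d * t = d⁻¹ := hinv t ht htP d hd
    have h1 : d⁻¹ ∈ Bz (t • R) := by
      rw [BR.conjB t]
      have e : t⁻¹ * d⁻¹ * t = (t * d * t)⁻¹ := by
        rw [mul_inv_rev, mul_inv_rev, htinv, mul_assoc]
      rw [e, htd, inv_inv]
      exact hdBR
    have htR : t • R = R := by
      by_contra hne
      have h2 := hbti (t • R) R hne d⁻¹ h1 (inv_mem hdBR)
      exact hd1 (inv_eq_one.mp h2)
    have htR' : t ∈ (R : Subgroup G) :=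
      BR.fix2 t htR ⟨1, by rw [pow_one, pow_two]; exact htt⟩
    have hcomm : t * d = d * t := by
      have h3 := Subgroup.mem_centralizer_iff.mp hdR t htR'
      exact h3
    have h4 : d = d⁻¹ := by
      rw [← htd, hcomm, mul_assoc, htt, mul_one]
    have h5 : d * d = 1 := by
      nth_rewrite 2 [h4]
      exact mul_inv_cancel d
    exact hd1 (eq_one_of_sq_of_odd h5 hdodd)

end Cfsg.Agent.Lib.Helper15.CAI
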