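import Mathlib
import Cfsg.Agent.Lib.Helper50.CAI.Defs
import Cfsg.Agent.Lib.Helper15.CAI.Common

/-!
# CAI (S2202) package [SEMI]

`Bz P` acts semiregularly on the Sylow 2-subgroups different from `P`.
-/

set_option autoImplicit false

namespace Cfsg.Agent.Lib.Helper15.CAI

open Cfsg.Agent.Lib.Helper50.CAI

universe u

theorem pkgSemi (hB : PkgBasic.{u}) : PkgSemi.{u} := by
  intro G _ _ hyp hbti hS P Q hPQ b hb hbQ
  have BP := hB hyp P
  have BQ := hB hyp Q
  obtain ⟨hbC, hbodd⟩ := (BP.memB b).mp hb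
  have hbP : b • P = P := smul_eq_of_mem_Cz hbC
  have hbD : b ∈ Dz P Q := mem_Dz.mpr ⟨hbP, hbQ⟩
  obtain ⟨t, ht, htP⟩ := (hS P Q hPQ).1
  have htt : t * t = 1 := mul_self_of_orderOf_two ht
  have htinv : t⁻¹ = t := inv_eq_of_mul_eq_one_right htt
  have htQ : t • Q = P := swap_symm ht htP
  -- b' := t * b * t
  have hb'Q : t * b * t ∈ Bz Q := by
    have h1 : t * b * t ∈ Bz (t • P) := by
      rw [BP.conjB t (t * b * t)]
      have e : t⁻¹ * (t * b * t) * t = b * (t * t) := by group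
      rw [e, htt, mul_one]
      exact hb
    rw [htP] at h1
    exact h1
  have hb'P' : (t * b * t) • P = P := by rw [mul_smul, mul_smul, htP, hbQ, htQ]
  have hb'Q' : (t * b * t) • Q = Q := by rw [mul_smul, mul_smul, htQ, hbP, htP]
  have hb'D : t * b * t ∈ Dz P Q := mem_Dz.mpr ⟨hb'P', hb'Q'⟩
  -- b and b' commute
  have h1 : b * (t * b * t) * b⁻¹ ∈ Bz Q := by
    have h := (BQ.conjB b (b * (t * b * t) * b⁻¹)).mpr (by
      have e : b⁻¹ * (b * (t * b * t) * b⁻¹) * b = t * b * t := by group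
      rw [e]
      exact hb'Q)
    rw [hbQ] at h
    exact h
  have h2 : b * (t * b * t) * b⁻¹ * (t * b * t)⁻¹ ∈ Bz Q := mul_mem h1 (inv_mem hb'Q)
  have h3 : (t * b * t) * b⁻¹ * (t * b * t)⁻¹ ∈ Bz P := by
    have h := (BP.conjB (t * b * t) ((t * b * t) * b⁻¹ * (t * b * t)⁻¹)).mpr (by
      have e : (t * b * t)⁻¹ * ((t * b * t) * b⁻¹ * (t * b * t)⁻¹) * (t * b * t) = b⁻¹ := by group
      rw [e]
      exact inv_mem hb)
    rw [hb'P'] at h
    exact h
  have h4 : b * (t * b * t) * b⁻¹ * (t * b * t)⁻¹ ∈ Bz P := by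
    have e : b * (t * b * t) * b⁻¹ * (t * b * t)⁻¹ = b * ((t * b * t) * b⁻¹ * (t * b * t)⁻¹) := by
      group
    rw [e]
    exact mul_mem hb h3
  have h5 : b * (t * b * t) * b⁻¹ * (t * b * t)⁻¹ = 1 := hbti P Q hPQ _ h4 h2
  have hcomm : b * (t * b * t) = (t * b * t) * b :=
    commutatorElement_eq_one_iff_mul_comm.mp (by rw [commutatorElement_def]; exact h5)
  -- c := b * b' commutes with t
  have hct : t * (b * (t * b * t)) = (b * (t * b * t)) * t := by
    have e1 : t * (b * (t * b * t)) * t = (t * b * t) * b := by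
      have : t * (b * (t * b * t)) * t = (t * b * t) * b * (t * t) := by group
      rw [this, htt, mul_one]
    calc t * (b * (t * b * t)) = t * (b * (t * b * t)) * (t * t) := by rw [htt, mul_one]
      _ = t * (b * (t * b * t)) * t * t := by group
      _ = (t * b * t) * b * t := by rw [e1]
      _ = (b * (t * b * t)) * t := by rw [hcomm]
  obtain ⟨R, htR⟩ := exists_sylow_of_involution ht
  have BR := hB hyp R
  have hcR : b * (t * b * t) ∈ Cz R := by
    rw [← BR.cent t htR ht]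
    exact mem_centralizer_singleton hct
  have hRP : R ≠ P := by
    intro h
    rw [h] at htR
    exact hPQ ((smul_eq_of_mem htR).symm.trans htP)
  have hcD : b * (t * b * t) ∈ Dz P Q := mul_mem hbD hb'D
  have hcodd := Dz_odd BP BQ hPQ hcD
  have hcBR : b * (t * b * t) ∈ Bz R := (BR.memB _).mpr ⟨hcR, hcodd⟩
  by_cases hc1 : b * (t * b * t) = 1
  · have h6 : t * b * t = b⁻¹ := eq_inv_of_mul_eq_one_right hc1
    have h7 : t * b * t = 1 := hbti P Q hPQ _ (by rw [h6]; exact inv_mem hb) hb'Q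
    rw [h7, mul_one] at hc1
    exact hc1
  · have hbc : b⁻¹ * (b * (t * b * t)) * b = b * (t * b * t) := by
      have e : b⁻¹ * (b * (t * b * t)) * b = (t * b * t) * b := by group
      rw [e, hcomm]
    have hcbR : b * (t * b * t) ∈ Bz (b • R) := by
      rw [BR.conjB b, hbc]
      exact hcBR
    have hbR : b • R = R := by
      by_contra hne
      exact hc1 (hbti (b • R) R hne _ hcbR hcBR)
    have hkR : t * (b * t * b⁻¹) ∈ (R : Subgroup G) := mul_mem htR (conj_mem_of_smul_eq hbR htR)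
    have hk1 : b * (t * (b * t * b⁻¹)) * b⁻¹ ∈ Cz R := BR.le (conj_mem_of_smul_eq hbR hkR)
    have hk2 : b * (t * (b * t * b⁻¹)) * b ∈ Cz R := by
      have e : b * (t * (b * t * b⁻¹)) * b = b * (t * b * t) := by group
      rw [e]
      exact hcR
    have hb2 : b * b ∈ Cz R := by
      have e : (b * (t * (b * t * b⁻¹)) * b⁻¹)⁻¹ * (b * (t * (b * t * b⁻¹)) * b) = b * b := by
        rw [← pow_two]
        group
      rw [← e]
      exact mul_mem (inv_mem hk1) hk2
    have hbCR : b ∈ Cz R := mem_of_sq_mem_of_odd hbodd hb2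
    exact hbti R P hRP b ((BR.memB b).mpr ⟨hbCR, hbodd⟩) hb

end Cfsg.Agent.Lib.Helper15.CAI
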